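import Mathlib
import Cfsg.Agent.Inv.M24G1

/-!
Searches for the principal blocks of simple groups of order dividing a given number.
-/

set_option autoImplicit false

namespace Cfsg.Agent.OD45

open Cfsg.Agent.Inv.Srch Cfsg.Agent.Inv.Sieve

/-- Only the order `p * m` and the given block survive. -/
def only (p m e : ℕ) (D : ℤ) (l : List ℤ) : Bool := (divs m).all fun j =>
  locAll (p * j) p fun e' c => false || blkAll2 (p * j) p e' c (fun _ => true) (fun _ => true)
    fun D' l' => j == m && e' == e && c == 1 && D' == D && l' == l

/-- The tests with involutions. -/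
def inv (n p e c : ℕ) (D : ℤ) (l : List ℤ) : Bool :=
  (Nat.beq (c % 2) 1 || anyZ n p e c (fun cz => Nat.beq (cz % p) 0) D l) &&
    anyZ n p e c (fun cz => Nat.beq (n / cz % 2) 1) D l

theorem s13 : only 13 600 2 (-24) [-25] = true := by decide +kernel

theorem s41 : only 41 6480 2 (-80) [-81] = true := by decide +kernel

theorem s43 : only 43 131712 3 (-384) [-42, -343] = true := by decide +kernel

theorem s7 : (locAll 344736 7 fun e c => Nat.beq (c % 19) 0 || blkAll2 344736 7 e c
    (fun a => okd 19 18 a.natAbs) (fun a => okd 19 18 a.natAbs)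
      fun D l => !inv 344736 7 e c D l) = true := by
  decide +kernel

end Cfsg.Agent.OD45
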