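import Mathlib
import Cfsg.Agent.OD45.Srch

/-!
Searches for the principal blocks of simple groups of order dividing 42573600.
-/

set_option autoImplicit false

namespace Cfsg.Agent.OD45

open Cfsg.Agent.Inv.Srch Cfsg.Agent.Inv.Sieve

theorem s73 : only 73 583200 3 (-800) [-72, -729] = true := by decide +kernel

end Cfsg.Agent.OD45
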