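import Mathlib
import Cfsg.Agent.OD45.Srch

/-!
Searches for the principal blocks of simple groups of order dividing 5515776.
-/

set_option autoImplicit false

namespace Cfsg.Agent.OD45

open Cfsg.Agent.Inv.Srch Cfsg.Agent.Inv.Sieve

theorem s19 : ((divs 290304).all fun j => locAll (19 * j) 19 fun e c =>
    (j == 18144 && e == 18 && c == 1) ||
    blkAll2 (19 * j) 19 e c (fun _ => true) (fun _ => true) fun D l =>
      (j == 9072 && c == 1 && !btq 3 4 D l) || !inv (19 * j) 19 e c D l ||
      (j == 290304 && e == 3 && c == 1 && D == -567 && l == [-56, -512])) = true := by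
  decide +kernel

end Cfsg.Agent.OD45
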