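import Mathlib
import Cfsg.Agent.OD45.Srch2
import Cfsg.Agent.OD45.Srch3
import Cfsg.Agent.Inv.M24A
import Cfsg.Agent.S0204

/-!
The principal blocks found by the searches, and the values of their characters.
-/

set_option autoImplicit false

namespace Cfsg.Agent.OD45

open Finset Cfsg.Agent.Ch Cfsg.Agent.Inv Cfsg.Agent.Inv.PB Cfsg.Agent.Inv.Srch
  Cfsg.Agent.Inv.Sieve Cfsg.Agent.Inv.M11

variable {G : Type*} [Group G] [Fintype G]

theorem of_only [IsSimpleGroup G] {p m e : ℕ} {D : ℤ} {l : List ℤ} (ht : only p m e D l = true)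
    (hG : ¬ (Nat.card G).Prime) (h1 : Nat.card G ∣ p * m) (h2 : p ∣ Nat.card G)
    (hp : p.Prime := by norm_num) (h3 : ¬ p ∣ m := by norm_num) :
    Nat.card G = p * m ∧ Nonempty (BD G p e 1 D l) := by
  obtain ⟨j, hj⟩ := h2
  have h4 : j ∣ m := Nat.dvd_of_mul_dvd_mul_left hp.pos (hj ▸ h1)
  obtain ⟨_, _, _, _, B, h⟩ := exists_BD hj (hj ▸ hG) hp (dvd_mul_right _ _)
    (fun h => h3 ((Nat.dvd_of_mul_dvd_mul_left hp.pos (pow_two p ▸ h)).trans h4))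
    (g := fun _ => false) (fun _ _ _ _ => rfl) (ok := fun _ _ _ => true) (okY := fun _ _ _ => true)
    (fun _ _ _ _ _ _ => ⟨rfl, rfl⟩)
    (List.all_eq_true.1 ht j (mem_divs (Nat.pos_of_ne_zero fun h => h3 (h ▸ dvd_zero p)) h4))
  simp only [Bool.and_eq_true, beq_iff_eq] at h
  obtain ⟨⟨⟨⟨rfl, rfl⟩, rfl⟩, rfl⟩, rfl⟩ := h
  exact ⟨hj, B⟩

omit [Fintype G] in
theorem not_comm [IsSimpleGroup G] (hG : ¬ (Nat.card G).Prime) : ¬ IsMulCommutative G := fun _ =>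
  hG (Group.is_simple_iff_prime_card.1 inferInstance)

omit [Fintype G] in
theorem not_cyclic [IsSimpleGroup G] (hG : ¬ (Nat.card G).Prime) : ¬ IsCyclic G := fun _ =>
  not_comm hG inferInstance

theorem inv_of [IsSimpleGroup G] {n p e c : ℕ} {D : ℤ} {l : List ℤ} (B : BD G p e c D l)
    (hn : Nat.card G = n) (hG : ¬ n.Prime) (hp : p ≠ 2) : inv n p e c D l = true := by
  obtain ⟨E, hE⟩ := S0204.result (not_cyclic (hn ▸ hG))
  have h4 : 4 ∣ n := hn ▸ hE.card_four ▸ E.card_subgroup_dvd_card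
  obtain ⟨t, ht, h5⟩ := exists_cen hn h4
  rw [inv, B.cenV hn hG h4 hp fun u _ h => Nat.beq_eq ▸ h, B.anyZ hn hG h4 hp ht h5]
  rfl

theorem card19 [IsSimpleGroup G] (hG : ¬ (Nat.card G).Prime) (h1 : Nat.card G ∣ 5515776)
    (h2 : 19 ∣ Nat.card G) : Nat.card G = 5515776 ∧ Nonempty (BD G 19 3 1 (-567) [-56, -512]) := by
  obtain ⟨x, hx⟩ := exists_prime_orderOf_dvd_card' (G := G) 19 (hp := ⟨by norm_num⟩) h2
  have hs : Setup 19 x := ⟨by norm_num, hx, fun h => absurd (h.trans h1) (by norm_num)⟩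
  obtain ⟨j, hj⟩ := h2
  obtain ⟨e, c, hc, hN, h⟩ := hs.loc hG hj (List.all_eq_true.1 s19 j (mem_divs (by norm_num)
    (Nat.dvd_of_mul_dvd_mul_left (k := 19) (by norm_num) (hj ▸ h1))))
  rw [Bool.or_eq_true] at h
  rcases h with h | h
  · simp only [Bool.and_eq_true, beq_iff_eq] at h
    obtain ⟨⟨rfl, rfl⟩, rfl⟩ := h
    obtain ⟨_, _, _, _, ⟨A⟩, h⟩ := exists_BD (p := 7) hj (by norm_num) (by norm_num) (by norm_num)
      (by norm_num) (fun y hy c h => beq_false_of_sc hs.prime hs.sq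
        (fun y hy => (hs.card_C_eq hy).trans hc) hy (by norm_num) (by norm_num)
        (Dvd.intro _ h.symm)) (fun _ _ χ _ a ha => by rw [and_self, ha, hs.okd hc hN]) s7
    rw [inv_of A hj (by norm_num) (by norm_num)] at h
    exact absurd h (by decide)
  obtain ⟨D, l, A, -, h⟩ := hs.exists_BD2 hj (hj ▸ hG) hc hN
    (fun _ _ _ _ _ => ⟨fun _ _ _ => rfl, fun _ _ => rfl⟩) h
  rw [inv_of A hj (hj ▸ hG) (by norm_num)] at h
  simp only [Bool.not_true, Bool.or_false, Bool.or_eq_true, Bool.and_eq_true, beq_iff_eq] at h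
  obtain ⟨⟨rfl, rfl⟩, h3⟩ | ⟨⟨⟨⟨rfl, rfl⟩, rfl⟩, rfl⟩, rfl⟩ := h
  · rw [A.btq (b := 4) Nat.prime_three (by norm_num) (by norm_num) (by rw [hj, fact_eq 4 2128])
      (by norm_num)] at h3
    exact absurd h3 (by decide)
  exact ⟨hj, ⟨A⟩⟩

theorem mem_primes {p e : ℕ} {D : ℤ} {l : List ℤ} (B : BD G p e 1 D l)
    (h : 1 + sqs (degR p e D l) ≠ Nat.card G) : p ∈ degreePrimes G := by
  refine ⟨B.blk.setup.prime, by_contra fun h1 => h ?_⟩
  obtain ⟨R, hR, h2⟩ := exists_rest (List.nodup_cons.2 ⟨B.one_notMem, B.nodup⟩)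
  obtain rfl : R = ∅ := eq_empty_of_forall_notMem fun χ hχ => (hR χ).1 hχ
    (List.mem_cons.2 (or_iff_not_imp_left.2 fun h3 => B.mem_of rfl h3 fun h4 => h1 ⟨_, ⟨χ, rfl⟩, h4⟩))
  rw [← sum_sq_charDegree, h2, ← B.degR, sqs_dg]
  simp [deg_irrOne, pow_two]

/-- The conditions on a value `u` and a centralizer order `c`. -/
def Pt (n p a D : ℕ) (u : ℤ) (c N : ℕ) : Prop :=
  ¬ p ∣ c ∧ 1 + u ^ 2 + ((p - 1) / 3 : ℕ) * (u - 1) ^ 2 ≤ c ∧ (D : ℤ) ∣ (n / c : ℕ) * (u - 1) ∧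
    (a : ℤ) ∣ (n / c : ℕ) * u ∧
    (3 * N * c * c : ℤ) = (p - 1) * (n - u ^ 2 * (n / a : ℕ) + (u - 1) ^ 2 * (n / D : ℕ))

theorem exists_val {n p a D r k : ℕ} {D' : ℤ} {l : List ℤ} (hn : Nat.card G = n)
    (B : BD G p 3 1 D' l) (hD : D' = -D) (hl : l = [-(a : ℤ), -((r ^ k : ℕ) : ℤ)]) (hr : r.Prime)
    (h0 : r ≠ p ∧ ¬ r ^ (k + 1) ∣ n ∧ 1 < a ∧ a ≠ D ∧ a ≠ r ^ k ∧ p ≠ 2 ∧ p ≠ 3 ∧ 0 < D) :
    ∃ (θ : IrrCharacter G) (u : G → ℤ), charDegree (θ : G → ℂ) = a ∧ (∀ g, (θ : G → ℂ) g = u g) ∧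
      ∀ y : G, y ≠ 1 → ∀ j, y ^ r ^ j = 1 → (r : ℤ) ∣ u y - a ∧
        ∃ N, Pt n p a D (u y) (Nat.card (C y)) N ∧ (y * y = 1 → N = 0) := by
  classical
  obtain ⟨hrp, hk, ha, haD, hab, hp2, hp3, hD0⟩ := h0
  subst hD hl
  obtain ⟨θ, χ, hL, hθ, hχ⟩ : ∃ θ χ, B.L = [θ, χ] ∧ sd B.δ θ = -a ∧ sd B.δ χ = -(r ^ k : ℕ) := by
    have h := B.hl
    simp only [List.map_eq_cons_iff, List.map_eq_nil_iff] at h
    obtain ⟨A, _, h, hA, B, _, rfl, hB, rfl⟩ := h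
    exact ⟨_, _, h, hA, hB⟩
  obtain ⟨δθ, dθ, -⟩ := B.of_neg (by simp [hL]) a hθ (by omega)
  obtain ⟨δχ, dχ, -⟩ := B.of_neg (by simp [hL]) _ hχ (pow_pos hr.pos k)
  have dη : charDegree (B.θ : G → ℂ) = D := by simpa using B.natAbs_D.symm
  have hε : B.ε = -1 := by
    rw [B.sign_D, Int.sign_neg, Int.sign_eq_one_of_pos (by exact_mod_cast hD0)]
  have hs := B.blk.setup
  have hC : Nat.card (C B.x) = p := B.hc.trans (one_mul p)
  have hθX := (B.lst.mem_of (χ := θ) (by simp [hL])).1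
  obtain ⟨u, hu⟩ : ∃ u : G → ℤ, ∀ g, (θ : G → ℂ) g = u g :=
    ⟨_, fun g => (B.blk.int_of_unique (.inl hθX) (fun ψ h1 h2 => by
      rcases h1 with h1 | h1
      · rw [B.lst.mem, hL] at h1
        simp only [List.mem_cons, List.not_mem_nil, or_false] at h1
        rcases h1 with rfl | rfl | rfl
        exacts [by have := @deg_irrOne G _; omega, rfl, by omega]
      · have := B.blk.deg_eq h1 B.hθ
        omega) g).choose_spec⟩
  refine ⟨θ, u, dθ, hu, fun y hy j hj => ⟨?_, ?_⟩⟩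
  · exact CT.modEq_mul θ.isCharacter hr hj (Commute.one_right y) (by rw [mul_one, hu])
      (by rw [← θ.2.coe_charDegree, dθ, Int.cast_natCast])
  obtain ⟨i, -, hi⟩ := (Nat.dvd_prime_pow hr).1 (orderOf_dvd_of_pow_eq_one hj)
  have hry : r ∣ orderOf y := hi ▸ dvd_pow_self r fun h => hy (orderOf_eq_one_iff.1 (by simp [hi, h]))
  have hpy : ¬ p ∣ orderOf y := fun h => hrp ((Nat.prime_dvd_prime_iff_eq hs.prime hr).1
    (hs.prime.dvd_of_dvd_pow (hi ▸ h))).symm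
  have vχ : (χ : G → ℂ) y = (0 : ℤ) :=
    (CT.zero_of_defect χ.2 hr (hn ▸ hk) dχ.symm.dvd hry).trans Int.cast_zero.symm
  have vη : ∀ η ∈ B.Y, (η : G → ℂ) y = (u y - 1 : ℤ) := fun η hη => by
    have h := B.rel hpy hη
    simp only [hL, hε, List.map_cons, List.map_nil, List.sum_cons, List.sum_nil, δθ, δχ, hu,
      vχ] at h
    push_cast at h ⊢
    linear_combination h
  have hi : (Subgroup.centralizer {y}).index = n / Nat.card (C y) := index_C_eq hn rfl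
  obtain ⟨f, hf, hf3⟩ := hs.exists_orderOf_eq B.blk.card_N
  have h3 := card_modEq_filter Nat.prime_three (x := (f, f)) (by simp [Prod.orderOf, hf3])
    (univ.filter fun q : G × G => IsConj y q.1 ∧ IsConj y q.2 ∧ q.1 * q.2 ∈ singC p B.x)
    fun q hq => by
      simp only [mem_filter, mem_univ, true_and, mem_singC] at hq ⊢
      refine ⟨hq.1.trans (isConj_iff.2 ⟨f, rfl⟩), hq.2.1.trans (isConj_iff.2 ⟨f, rfl⟩), ?_⟩
      rw [show ((f, f) * q * (f, f)⁻¹).1 * ((f, f) * q * (f, f)⁻¹).2 = f * (q.1 * q.2) * f⁻¹ by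
        simp [mul_assoc], ← CT.orderOf_eq_of_isConj (isConj_iff.2 ⟨f, rfl⟩)]
      rw [hs.C_eq_P hC] at hq ⊢
      exact ⟨(Subgroup.mem_normalizer_iff.1 hf _).1 hq.2.2.1, hq.2.2.2⟩
  rw [filter_false_of_mem (s := univ.filter _), card_empty, Nat.modEq_zero_iff_dvd] at h3
  swap
  · intro q hq h
    simp only [mem_filter, mem_univ, true_and, mem_singC] at hq
    refine hs.not_dvd_C hC (CT.ne_one_of_orderOf hf3 (by norm_num)) (hf3 ▸ hp3.symm) ?_
    refine hq.2.2.2.trans (CT.orderOf_dvd_card_centralizer (Commute.mul_left ?_ ?_))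
    exacts [congrArg Prod.fst h, congrArg Prod.snd h]
  obtain ⟨N, hN⟩ := h3
  refine ⟨N, ⟨hs.not_dvd_C hC hy fun h => hpy h.symm.dvd, ?_, ?_, ?_, ?_⟩, fun h => ?_⟩
  · have h1 := CT.col_le (insert (irrOne G) (insert θ B.Y)) y
      (fun ψ => if ψ = irrOne G then 1 else if ψ = θ then u y else u y - 1) fun ψ hψ => by
        split_ifs with h1 h2
        · rw [h1, irrOne_apply, Int.cast_one]
        · rw [h2, hu]
        · exact vη ψ (by simpa [h1, h2] using hψ)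
    have h2 : θ ≠ irrOne G := (B.lst.mem_of (by simp [hL])).2
    rw [sum_insert (by simpa [h2.symm] using B.blk.disj _ B.blk.one_mem), sum_insert (B.blk.disj _ hθX),
      sum_congr rfl fun ψ hψ => by rw [if_neg (B.blk.ne_one_Y hψ),
        if_neg fun h : ψ = θ => B.blk.disj _ hθX (h ▸ hψ)], sum_const, B.blk.card_Y'] at h1
    simpa [h2, add_assoc] using h1
  · simpa only [dη, hi] using CT.deg_dvd B.θ (vη _ B.hθ)
  · simpa only [dθ, hi] using CT.deg_dvd θ (hu y)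
  · have h1 := B.blk.pairs hpy hpy B.hθ
    have h2 : cc B.x = 1 := Nat.eq_of_mul_eq_mul_right hs.prime.pos (hs.card_C.symm.trans B.hc)
    have h4 := cast_term hn θ (u y)
    have h5 := cast_term hn B.θ (u y - 1)
    rw [hN, h2, B.lst.sum, hL, hε, hn, vη _ B.hθ, B.blk.δ_one] at h1
    simp only [List.map_cons, List.map_nil, List.sum_cons, List.sum_nil, δθ, δχ, hu y, vχ,
      irrOne_apply] at h1
    rw [dθ] at h4
    rw [dη] at h5
    apply Int.cast_injective (α := ℂ)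
    push_cast at h1 h4 h5 ⊢
    linear_combination h1 - (p - 1) * h4 + (p - 1) * h5
  · have h1 := hs.card_pairs_inv hp2 h h
    rw [hN, hs.invs_eq_empty hp2 B.blk.card_N (by decide), card_empty] at h1
    simpa [hs.prime.ne_zero] using h1

end Cfsg.Agent.OD45
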